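import Mathlib
import Cfsg.Agent.Lib.OrthSyl.Count

/-!
# The `2`-part of `|GL_n(q)|`
-/

set_option autoImplicit false

namespace Cfsg.Agent.Lib.SLSyl.Count

open Finset Cfsg.Agent.Lib.OrthSyl.Count

/-- The order of `GL_n(q)`. -/
def wP (q n : ℕ) : ℕ := ∏ i ∈ range n, (q ^ n - q ^ i)

theorem wP_succ (q n : ℕ) : wP q (n + 1) = q ^ n * wP q n * (q ^ (n + 1) - 1) := by
  rw [wP, Finset.prod_range_succ', pow_zero, wP]
  congr 1
  have h : ∀ i ∈ range n, q ^ (n + 1) - q ^ (i + 1) = q * (q ^ n - q ^ i) := by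
    intro i _
    rw [Nat.mul_sub, pow_succ' q n, pow_succ' q i]
  rw [Finset.prod_congr rfl h, Finset.prod_mul_distrib, Finset.prod_const, Finset.card_range]

theorem wP_ne_zero {q : ℕ} (h1 : 1 < q) (n : ℕ) : wP q n ≠ 0 := by
  rw [wP, Finset.prod_ne_zero_iff]
  intro i hi
  have h2 : q ^ i < q ^ n := Nat.pow_lt_pow_right h1 (Finset.mem_range.1 hi)
  omega

theorem val_wP_succ {q : ℕ} (hq : Odd q) (h1 : 1 < q) (n : ℕ) :
    padicValNat 2 (wP q (n + 1)) = padicValNat 2 (wP q n) + padicValNat 2 (q ^ (n + 1) - 1) := by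
  haveI : Fact (Nat.Prime 2) := ⟨Nat.prime_two⟩
  have hq0 : q ^ n ≠ 0 := by positivity
  rw [wP_succ, padicValNat.mul (mul_ne_zero hq0 (wP_ne_zero h1 n)) (sub_one_ne_zero h1 (by omega)),
    padicValNat.mul hq0 (wP_ne_zero h1 n), val_pow_odd hq, zero_add]

/-- The valuation of `|GL_{2m}(q)|`. -/
theorem val_wP_even {q : ℕ} (hq : Odd q) (h1 : 1 < q) (m : ℕ) :
    padicValNat 2 (wP q (2 * m)) =
      m * (2 * padicValNat 2 (q - 1) + padicValNat 2 (q + 1)) + padicValNat 2 m.factorial := by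
  induction m with
  | zero => simp [wP]
  | succ m ih =>
    have h2 : 2 * (m + 1) = 2 * m + 1 + 1 := by ring
    rw [h2, val_wP_succ hq h1, val_wP_succ hq h1, ih, val_odd_sub hq h1 (m := 2 * m + 1) ⟨m, rfl⟩,
      show 2 * m + 1 + 1 = 2 * (m + 1) by ring, val_even_sub hq h1 (by omega), val_factorial_succ]
    ring

/-- The valuation of `|GL_{2m+1}(q)|`. -/
theorem val_wP_odd {q : ℕ} (hq : Odd q) (h1 : 1 < q) (m : ℕ) :
    padicValNat 2 (wP q (2 * m + 1)) =
      m * (2 * padicValNat 2 (q - 1) + padicValNat 2 (q + 1)) + padicValNat 2 m.factorial +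
        padicValNat 2 (q - 1) := by
  rw [val_wP_succ hq h1, val_wP_even hq h1, val_odd_sub hq h1 (m := 2 * m + 1) ⟨m, rfl⟩]

end Cfsg.Agent.Lib.SLSyl.Count
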